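import Groth.Agent.S2069
import Groth.Agent.Lib.Flatness.Fibre
import Mathlib

/-!
# Associated primes and length of a tensor product with a flat module over a local homomorphism
-/

universe u

open scoped TensorProduct
open IsLocalRing

namespace GrothLib.AssTensor3

/-- Transport of maximal associated primes and lengths along a semilinear bijection over a surjection of
local rings. -/
theorem transport_surj {A B M N : Type u} [CommRing A] [CommRing B] [IsLocalRing A] [IsLocalRing B]
    [AddCommGroup M] [Module A M] [AddCommGroup N] [Module B N] (ψ : A →+* B) (φ : M →+ N)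
    (hψ : Function.Surjective ψ) (hφ : Function.Bijective φ) (h : ∀ c z, φ (c • z) = ψ c • φ z) :
    (IsAssociatedPrime (maximalIdeal A) M ↔ IsAssociatedPrime (maximalIdeal B) N) ∧
      Module.length A M = Module.length B N := by
  letI := ψ.toAlgebra
  letI : Module A N := Module.compHom N ψ
  haveI : IsScalarTower A B N := ⟨fun a b n => mul_smul (ψ a) b n⟩
  let e : M ≃ₗ[A] N :=
    LinearEquiv.ofBijective ({ toFun := φ, map_add' := map_add φ, map_smul' := h } : M →ₗ[A] N) hφ
  refine ⟨e.isAssociatedPrime_iff.trans ?_, e.length_eq.trans (Module.length_eq_of_surjective hψ)⟩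
  have hmax : (maximalIdeal B).comap ψ = maximalIdeal A := by
    haveI := Ideal.comap_isMaximal_of_surjective ψ hψ (K := maximalIdeal B)
    exact eq_maximalIdeal this
  have hcol : ∀ n : N, ((⊥ : Submodule B N).colon {n}).comap ψ = (⊥ : Submodule A N).colon {n} := fun n => by
    ext a
    rw [Ideal.mem_comap, Submodule.mem_colon_singleton, Submodule.mem_colon_singleton, Submodule.mem_bot,
      Submodule.mem_bot]
    rfl
  unfold IsAssociatedPrime
  rw [Submodule.isAssociatedPrime_def, Submodule.isAssociatedPrime_def]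
  refine and_congr (iff_of_true (maximalIdeal.isMaximal A).isPrime
    (maximalIdeal.isMaximal B).isPrime) (exists_congr fun n => ?_)
  rw [← hcol, ← Ideal.comap_radical, ← hmax]
  exact ⟨fun h => Ideal.comap_injective_of_surjective ψ hψ h, fun h => congrArg _ h⟩

variable {R S : Type u} [CommRing R] [CommRing S] [Algebra R S] {M N : Type u} [AddCommGroup M] [Module R M]
  [AddCommGroup N] [Module S N] [Module R N] [IsScalarTower R S N] [Module.Flat R N]

/-- An associated prime of `N/pN` lies exactly over `p`. -/
theorem comap_eq {p : Ideal R} [p.IsPrime] {Q : Ideal S}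
    (hQ : Q ∈ associatedPrimes S (N ⧸ p.map (algebraMap R S) • (⊤ : Submodule S N))) :
    Q.comap (algebraMap R S) = p := by
  obtain ⟨e⟩ := Groth.Agent.S2069.nonempty_quot_equiv R S N p
  rw [LinearEquiv.AssociatedPrimes.eq e] at hQ
  obtain ⟨hp, x, hx⟩ := hQ
  have hx0 : x ≠ 0 := by
    rintro rfl
    exact hp.ne_top (by rw [hx]; simp)
  refine le_antisymm (fun r hr => ?_) (fun r hr => ?_)
  · by_contra hrq
    obtain ⟨n, hn⟩ := hx.le hr
    rw [Submodule.mem_colon_singleton, Submodule.mem_bot, ← map_pow] at hn
    exact hx0 (Groth.Agent.S2069.eq_zero_of_smul (fun h => hrq (‹p.IsPrime›.mem_of_pow_mem n h)) x hn)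
  · refine hx.ge (Ideal.le_radical ?_)
    rw [Submodule.mem_colon_singleton, Submodule.mem_bot, algebraMap_smul]
    clear hx hx0
    induction x with
    | zero => rw [smul_zero]
    | add a b ha hb => rw [smul_add, ha, hb, add_zero]
    | tmul n z =>
      rw [← TensorProduct.tmul_smul, Algebra.smul_def, Ideal.Quotient.algebraMap_eq,
        Ideal.Quotient.eq_zero_iff_mem.mpr hr, zero_mul, TensorProduct.tmul_zero]

variable [IsNoetherianRing R] [IsNoetherianRing S] [IsLocalRing R] [IsLocalRing S] [IsLocalHom (algebraMap R S)]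

omit [IsNoetherianRing S] in
/-- The maximal ideal is associated to `N ⊗ M` iff it is so on both factors. -/
theorem maximal_ass_iff :
    IsAssociatedPrime (maximalIdeal S) (N ⊗[R] M) ↔ IsAssociatedPrime (maximalIdeal R) M ∧
      IsAssociatedPrime (maximalIdeal S) (N ⧸ (maximalIdeal R).map (algebraMap R S) • (⊤ : Submodule S N)) := by
  show maximalIdeal S ∈ associatedPrimes S (N ⊗[R] M) ↔ _
  rw [Groth.Agent.S2069.result, Set.mem_iUnion₂]
  refine ⟨fun ⟨p, hp, h⟩ => ?_, fun h => ⟨_, h.1, h.2⟩⟩
  haveI := hp.isPrime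
  have := comap_eq h
  have h0 : (maximalIdeal S).comap (algebraMap R S) = maximalIdeal R :=
    ((local_hom_TFAE (algebraMap R S)).out 0 4).mp (inferInstance : IsLocalHom (algebraMap R S))
  rw [h0] at this
  subst this
  exact ⟨hp, h⟩

/-- An associated prime of `M` gives associated primes of `N ⊗ M` over it. -/
theorem exists_ass_over [Module.Finite S N] [Nontrivial N] {p : Ideal R} (hp : p ∈ associatedPrimes R M) :
    ∃ Q ∈ associatedPrimes S (N ⊗[R] M), Q.comap (algebraMap R S) = p := by
  haveI := hp.isPrime
  haveI : Nontrivial (N ⧸ p.map (algebraMap R S) • (⊤ : Submodule S N)) := by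
    refine Submodule.Quotient.nontrivial_iff.mpr (Submodule.top_ne_ideal_smul_of_le_jacobson_annihilator ?_).symm
    exact (((Ideal.map_mono (le_maximalIdeal hp.isPrime.ne_top)).trans
        (((local_hom_TFAE (algebraMap R S)).out 0 2).mp (inferInstance : IsLocalHom (algebraMap R S)))).trans
        (IsLocalRing.maximalIdeal_le_jacobson _))
  obtain ⟨Q, hQ⟩ := associatedPrimes.nonempty S (N ⧸ p.map (algebraMap R S) • (⊤ : Submodule S N))
  refine ⟨Q, ?_, comap_eq hQ⟩
  rw [Groth.Agent.S2069.result]
  exact Set.mem_iUnion₂.mpr ⟨p, hp, hQ⟩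

omit [IsNoetherianRing R] [IsNoetherianRing S] [IsLocalRing S] [IsLocalHom (algebraMap R S)] [Module.Flat R N] in
/-- A module of length one over a local ring is the residue field. -/
theorem nonempty_tensor_of_length_one (h : Module.length R M = 1) :
    Nonempty (N ⊗[R] M ≃ₗ[S] N ⧸ (maximalIdeal R).map (algebraMap R S) • (⊤ : Submodule S N)) := by
  obtain ⟨m, hm, ⟨e⟩⟩ := isSimpleModule_iff_quot_maximal.mp (Module.length_eq_one_iff.mp h)
  obtain rfl := eq_maximalIdeal hm
  obtain ⟨e'⟩ := Groth.Agent.S2069.nonempty_quot_equiv R S N (maximalIdeal R)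
  exact ⟨(TensorProduct.AlgebraTensorModule.congr (LinearEquiv.refl S N) e).trans e'.symm⟩

/-- `N ⊗ M` has length one iff `M` and the fibre of `N` do, when the maximal ideal is associated. -/
theorem length_eq_one_iff [Module.Finite S N]
    (hass : IsAssociatedPrime (maximalIdeal S) (N ⊗[R] M)) :
    Module.length S (N ⊗[R] M) = 1 ↔ Module.length R M = 1 ∧
      Module.length S (N ⧸ (maximalIdeal R).map (algebraMap R S) • (⊤ : Submodule S N)) = 1 := by
  refine ⟨fun h => ?_, fun ⟨h, h'⟩ => ?_⟩
  swap
  · obtain ⟨e⟩ := nonempty_tensor_of_length_one (N := N) (S := S) h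
    rw [e.length_eq, h']
  obtain ⟨hM, hN⟩ := maximal_ass_iff.mp hass
  obtain ⟨hp, m, hm⟩ := isAssociatedPrime_iff.mp hM
  let g : (R ⧸ maximalIdeal R) →ₗ[R] M := Submodule.liftQ _ (LinearMap.toSpanSingleton R M m) fun r hr => by
    have := hm.le hr
    rwa [Submodule.mem_colon_singleton, Submodule.mem_bot] at this
  have hg : Function.Injective g := by
    rw [← LinearMap.ker_eq_bot, Submodule.ker_liftQ_eq_bot]
    intro r hr
    refine hm.ge ?_
    rw [Submodule.mem_colon_singleton, Submodule.mem_bot]
    exact hr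
  let a := TensorProduct.AlgebraTensorModule.lTensor S N g
  let b := TensorProduct.AlgebraTensorModule.lTensor S N (LinearMap.range g).mkQ
  have hab : Function.Exact a b := by
    rw [TensorProduct.AlgebraTensorModule.coe_lTensor, TensorProduct.AlgebraTensorModule.coe_lTensor]
    exact lTensor_exact N (LinearMap.exact_map_mkQ_range g) (Submodule.mkQ_surjective _)
  have hb : Function.Surjective b := by
    rw [TensorProduct.AlgebraTensorModule.coe_lTensor]
    exact LinearMap.lTensor_surjective N (Submodule.mkQ_surjective _)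
  have hlen := Module.length_eq_add_of_exact a b (Groth.Agent.S2069.inj_lT g hg) hb hab
  obtain ⟨e⟩ := Groth.Agent.S2069.nonempty_quot_equiv R S N (maximalIdeal R)
  rw [h, ← e.length_eq] at hlen
  have hne : Nontrivial (N ⧸ (maximalIdeal R).map (algebraMap R S) • (⊤ : Submodule S N)) := by
    by_contra hc
    rw [not_nontrivial_iff_subsingleton] at hc
    haveI := hc
    have h0 : maximalIdeal S ∈
        associatedPrimes S (N ⧸ (maximalIdeal R).map (algebraMap R S) • (⊤ : Submodule S N)) := hN
    rw [associatedPrimes.eq_empty_of_subsingleton] at h0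
    exact Set.notMem_empty _ h0
  have h1 : 1 ≤ Module.length S (N ⧸ (maximalIdeal R).map (algebraMap R S) • (⊤ : Submodule S N)) :=
    Order.one_le_iff_pos.mpr Module.length_pos
  have hz : Module.length S (N ⊗[R] (M ⧸ LinearMap.range g)) = 0 := by
    by_contra hc
    have h2 : (1 : ℕ∞) + 1 ≤ 1 := (add_le_add h1 (Order.one_le_iff_pos.mpr (pos_iff_ne_zero.mpr hc))).trans hlen.ge
    exact absurd h2 (by decide)
  rw [hz, add_zero] at hlen
  refine ⟨?_, hlen.symm⟩
  haveI : Nontrivial N := Submodule.mkQ_surjective _ |>.nontrivial (f := Submodule.mkQ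
    ((maximalIdeal R).map (algebraMap R S) • (⊤ : Submodule S N)))
  haveI : Module.FaithfullyFlat R N := GrothLib.Flatness.faithfullyFlat_of_finite (R := R) (S := S) (M := N)
  haveI := Module.length_eq_zero_iff.mp hz
  haveI : Subsingleton (M ⧸ LinearMap.range g) := (Module.FaithfullyFlat.subsingleton_tensorProduct_iff_right
    (R := R) (M := N)).mp inferInstance
  have hgs : Function.Surjective g := LinearMap.range_eq_top.mp (Submodule.Quotient.subsingleton_iff.mp this)
  rw [← (LinearEquiv.ofBijective g ⟨hg, hgs⟩).length_eq, Module.length_eq_one_iff]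
  exact isSimpleModule_iff_quot_maximal.mpr ⟨_, maximalIdeal.isMaximal R, ⟨LinearEquiv.refl R _⟩⟩

end GrothLib.AssTensor3
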