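import Groth.Agent.Lib.AssTensor3.Stalk

/-!
# Embedded points and reducedness of `f^*E ⊗ F`
-/

universe u

open CategoryTheory AlgebraicGeometry IsLocalRing

namespace GrothLib.AssTensor3

variable {X Y : Scheme.{u}} [IsLocallyNoetherian X] [IsLocallyNoetherian Y] {f : X ⟶ Y} {E : Y.Modules}
  {F : X.Modules} (hE : Coh.IsCoh E) (hF : Coh.IsCoh F) (hflat : FlatMod.IsFlatOver f F)

include hflat in
/-- An associated point lies in the support of `F`. -/
theorem mem_support_of_ass {x : X} (hx : x ∈ AssSch.Ass (pullTensor f E F)) : x ∈ CohB1.support F := by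
  intro hs
  have h := ((ass_tensor_iff hflat x).mp hx).2
  haveI : Subsingleton (F.presheaf.stalk x) := hs
  haveI : Subsingleton (fibreQuot f F x) := (Submodule.mkQ_surjective _).subsingleton
  have h' : maximalIdeal (X.presheaf.stalk x) ∈ associatedPrimes (X.presheaf.stalk x) (fibreQuot f F x) := h
  rw [associatedPrimes.eq_empty_of_subsingleton] at h'
  exact Set.notMem_empty _ h'

include hflat in
/-- Associated points on a fibre are associated to the tensor product. -/
theorem ass_fiber_iff {y : Y} (hy : y ∈ AssSch.Ass E) (w : f.fiber y) :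
    w ∈ AssSch.Ass ((Scheme.Modules.pullback (f.fiberι y)).obj F) ↔
      f.fiberι y w ∈ AssSch.Ass (pullTensor f E F) := by
  rw [ass_tensor_iff hflat, GrothLib.FibreFlat.fiberι_comp_apply f y w]
  exact (fibre_transport f F y w).1.trans (iff_and_self.mpr fun _ => hy)

include hE hF hflat in
/-- When no associated point of `E` below the support embeds. -/
theorem maximal_of_noEmbedded (h : AssSch.NoEmbedded (pullTensor f E F)) {y : Y}
    (hy : y ∈ AssSch.Ass E ∩ f.base '' CohB1.support F) : ∀ y' ∈ AssSch.Ass E, y' ⤳ y → y' = y := by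
  intro y' hy' hsp
  obtain ⟨hy, x, hx, rfl⟩ := hy
  obtain ⟨z, hz, -, hfz⟩ := exists_ass_tensor_over hE hF hflat hx hy specializes_rfl
  change f z = f x at hfz
  obtain ⟨z', hz', hz'z, hfz'⟩ :=
    exists_ass_tensor_over hE hF hflat (mem_support_of_ass hflat hz) hy' (hfz.symm ▸ hsp)
  rw [h z hz z' hz' hz'z] at hfz
  exact hfz'.symm.trans hfz

include hE hF hflat in
/-- `f^*E ⊗ F` has no embedded associated point iff so does `E` below the support and `F` on the fibres. -/
theorem noEmbedded_iff :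
    AssSch.NoEmbedded (pullTensor f E F) ↔
      ∀ y ∈ AssSch.Ass E ∩ f.base '' CohB1.support F,
        (∀ y' ∈ AssSch.Ass E, y' ⤳ y → y' = y) ∧
          AssSch.NoEmbedded ((Scheme.Modules.pullback (f.fiberι y)).obj F) := by
  refine ⟨fun h y hy => ⟨maximal_of_noEmbedded hE hF hflat h hy, fun w hw w' hw' hsp =>
    (f.fiberι y).isEmbedding.injective (h _ ((ass_fiber_iff hflat hy.1 w).mp hw) _
      ((ass_fiber_iff hflat hy.1 w').mp hw') (hsp.map (f.fiberι y).continuous))⟩, fun h z hz z' hz' hsp => ?_⟩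
  have hy := ((ass_tensor_iff hflat z).mp hz).1
  have hy' := ((ass_tensor_iff hflat z').mp hz').1
  obtain ⟨hmax, hne⟩ := h (f z) ⟨hy, z, mem_support_of_ass hflat hz, rfl⟩
  have hfz : f z' = f z := hmax _ hy' (hsp.map f.continuous)
  obtain ⟨w, hw⟩ : z ∈ Set.range (f.fiberι (f z)) := (f.range_fiberι (f z)).symm ▸ rfl
  obtain ⟨w', hw'⟩ : z' ∈ Set.range (f.fiberι (f z)) := (f.range_fiberι (f z)).symm ▸ hfz
  rw [← hw, ← hw']
  exact congrArg _ (hne w ((ass_fiber_iff hflat hy w).mpr (hw.symm ▸ hz)) w'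
    ((ass_fiber_iff hflat hy w').mpr (hw'.symm ▸ hz'))
    ((f.fiberι (f z)).isEmbedding.isInducing.specializes_iff.mp (by rwa [hw, hw'])))

include hE hF hflat in
/-- `f^*E ⊗ F` is reduced iff so is `E` below the support and `F` on the fibres. -/
theorem isReducedMod_iff :
    AssSch.IsReducedMod (pullTensor f E F) ↔
      ∀ y ∈ AssSch.Ass E ∩ f.base '' CohB1.support F,
        (∀ y' ∈ AssSch.Ass E, y' ⤳ y → y' = y) ∧
          Module.length (Y.presheaf.stalk y) (E.presheaf.stalk y) = 1 ∧
          AssSch.IsReducedMod ((Scheme.Modules.pullback (f.fiberι y)).obj F) := by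
  constructor
  · rintro ⟨h, hlen⟩ y hy
    obtain ⟨hmax, hne⟩ := (noEmbedded_iff hE hF hflat).mp h y hy
    refine ⟨hmax, ?_, hne, fun w hw => ?_⟩
    · obtain ⟨hy, x, hx, rfl⟩ := hy
      obtain ⟨z, hz, -, hfz⟩ := exists_ass_tensor_over hE hF hflat hx hy specializes_rfl
      rw [← hfz]
      exact ((length_tensor_iff hF hflat hz).mp (hlen z hz)).1
    · have hz := (ass_fiber_iff hflat hy.1 w).mp hw
      rw [(fibre_transport f F y w).2]
      exact ((length_tensor_iff hF hflat hz).mp (hlen _ hz)).2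
  · intro h
    refine ⟨(noEmbedded_iff hE hF hflat).mpr fun y hy => ⟨(h y hy).1, (h y hy).2.2.1⟩, fun z hz => ?_⟩
    have hy := ((ass_tensor_iff hflat z).mp hz).1
    obtain ⟨-, hl, -, hlw⟩ := h (f z) ⟨hy, z, mem_support_of_ass hflat hz, rfl⟩
    refine (length_tensor_iff hF hflat hz).mpr ⟨hl, ?_⟩
    obtain ⟨w, hw⟩ : z ∈ Set.range (f.fiberι (f z)) := (f.range_fiberι (f z)).symm ▸ rfl
    have h2 := hlw w ((ass_fiber_iff hflat hy w).mpr (hw.symm ▸ hz))
    rw [(fibre_transport f F (f z) w).2] at h2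
    have h3 : ∀ z', z' = z → Module.length (X.presheaf.stalk z') (fibreQuot f F z') = 1 →
        Module.length (X.presheaf.stalk z) (fibreQuot f F z) = 1 := by rintro z' rfl h'; exact h'
    exact h3 _ hw h2

end GrothLib.AssTensor3
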