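import Groth.Agent.Lib.AssPts.Points
import Groth.Agent.Lib.FlatFP.Sheaf
import Groth.Prelude.Def_FDesc
import Mathlib.RingTheory.Ideal.AssociatedPrime.Localization

/-!
# Associated points among the generalisations of a point, read off the stalk
-/

universe u

open CategoryTheory AlgebraicGeometry

namespace GrothLib.AssTensor3

variable {X Y : Scheme.{u}}

/-- A generalisation of `x` is associated iff its prime is associated to the stalk at `x`. -/
theorem fromSpecStalk_mem_ass_iff [IsLocallyNoetherian X] (T : X.Modules) [T.IsQuasicoherent] (x : X)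
    (q : PrimeSpectrum (X.presheaf.stalk x)) :
    X.fromSpecStalk x q ∈ AssSch.Ass T ↔ q.asIdeal ∈ associatedPrimes (X.presheaf.stalk x) (T.presheaf.stalk x) := by
  obtain ⟨V, hV, hxV, -⟩ := exists_isAffineOpen_mem_and_subset (show x ∈ (⊤ : X.Opens) from trivial)
  haveI := IsLocallyNoetherian.component_noetherian ⟨V, hV⟩
  letI := X.presheaf.algebra_section_stalk ⟨x, hxV⟩
  haveI := GrothLib.FlatFP.isLocalization_stalk_primeAt hV hxV
  letI : Module Γ(X, V) (T.presheaf.stalk x) := Module.compHom _ (X.presheaf.germ V x hxV).hom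
  haveI : IsScalarTower Γ(X, V) (X.presheaf.stalk x) (T.presheaf.stalk x) :=
    IsScalarTower.of_algebraMap_smul fun _ _ => rfl
  obtain ⟨g, hg, -⟩ := GrothLib.FlatFP.isLocalizedModule_germ T hV hxV
  let p : PrimeSpectrum Γ(X, V) := PrimeSpectrum.comap (X.presheaf.germ V x hxV).hom q
  have hz : X.fromSpecStalk x q = hV.fromSpec p := by
    rw [← hV.fromSpecStalk_eq_fromSpecStalk hxV, IsAffineOpen.fromSpecStalk, Scheme.Hom.comp_apply]
    rfl
  have hzV : hV.fromSpec p ∈ V := GrothLib.WeakAss.fromSpec_mem hV p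
  rw [hz]
  refine (GrothLib.AssPts.ass_iff T hV hzV).trans ?_
  rw [GrothLib.WeakAss.primeAt_fromSpec hV p hzV,
    ← Module.associatedPrimes.preimage_comap_associatedPrimes_eq_associatedPrimes_of_isLocalizedModule
      (GrothLib.WeakAss.primeAt x hxV).primeCompl (X.presheaf.stalk x) g]
  rfl

/-- The image of a generalisation read off the stalk. -/
theorem map_fromSpecStalk (f : X ⟶ Y) (x : X) (q : PrimeSpectrum (X.presheaf.stalk x)) :
    f (X.fromSpecStalk x q) = Y.fromSpecStalk (f x) (PrimeSpectrum.comap (f.stalkMap x).hom q) := by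
  rw [← Scheme.Hom.comp_apply, ← Scheme.SpecMap_stalkMap_fromSpecStalk, Scheme.Hom.comp_apply]
  rfl

theorem fromSpecStalk_specializes (x : X) (q : PrimeSpectrum (X.presheaf.stalk x)) :
    X.fromSpecStalk x q ⤳ x := by
  have h : X.fromSpecStalk x q ∈ Set.range (X.fromSpecStalk x) := ⟨q, rfl⟩
  rwa [Scheme.range_fromSpecStalk] at h

theorem exists_of_specializes {x z : X} (h : z ⤳ x) :
    ∃ q : PrimeSpectrum (X.presheaf.stalk x), X.fromSpecStalk x q = z := by
  have h' : z ∈ Set.range (X.fromSpecStalk x) := by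
    rw [Scheme.range_fromSpecStalk]
    exact h
  exact h'

end GrothLib.AssTensor3
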