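import Groth.Agent.Lib.AssTensor3.Alg
import Groth.Agent.Lib.AssTensor3.Points
import Groth.Agent.Lib.AssPts.Restrict
import Groth.Agent.Lib.AssPts.Primary
import Groth.Agent.Lib.OX.StalkTensor
import Groth.Agent.Lib.QCoh.StalkPullback
import Groth.Agent.Lib.FibreFlat.Stalk
import Groth.Agent.Lib.VA.Tensor
import Groth.Agent.Lib.FittSheaf.Pullback
import Groth.Prelude.Def_CohB1

/-!
# Stalks of `f^*E ⊗ F` for `F` flat over the base
-/

universe u

open CategoryTheory AlgebraicGeometry IsLocalRing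
open scoped TensorProduct

namespace GrothLib.AssTensor3

variable {X Y : Scheme.{u}} (f : X ⟶ Y) (E : Y.Modules) (F : X.Modules)

/-- `f^*E ⊗ F`. -/
noncomputable abbrev pullTensor : X.Modules := CohB1.tensorMod ((Scheme.Modules.pullback f).obj E) F

/-- The ideal of the fibre in the local ring at `x`. -/
noncomputable abbrev fibreIdeal (x : X) : Ideal (X.presheaf.stalk x) :=
  (maximalIdeal (Y.presheaf.stalk (f x))).map (f.stalkMap x).hom

/-- `F_x / 𝔪_{f(x)} F_x`. -/
abbrev fibreQuot (x : X) : Type u :=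
  F.presheaf.stalk x ⧸ fibreIdeal f x • (⊤ : Submodule (X.presheaf.stalk x) (F.presheaf.stalk x))

/-- The stalk of `f^*E ⊗ F`. -/
theorem nonempty_stalk_equiv (x : X) :
    letI := (f.stalkMap x).hom.toAlgebra
    letI := FlatMod.moduleStalkOver f F x
    haveI : IsScalarTower (Y.presheaf.stalk (f x)) (X.presheaf.stalk x) (F.presheaf.stalk x) :=
      IsScalarTower.of_algebraMap_smul fun _ _ => rfl
    Nonempty ((pullTensor f E F).presheaf.stalk x ≃ₗ[X.presheaf.stalk x]
      F.presheaf.stalk x ⊗[Y.presheaf.stalk (f x)] E.presheaf.stalk (f x)) := by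
  letI := (f.stalkMap x).hom.toAlgebra
  letI := FlatMod.moduleStalkOver f F x
  haveI : IsScalarTower (Y.presheaf.stalk (f x)) (X.presheaf.stalk x) (F.presheaf.stalk x) :=
    IsScalarTower.of_algebraMap_smul fun _ _ => rfl
  exact ⟨(OX.stalkTensorBiIso x ((Scheme.Modules.pullback f).obj E) F).toLinearEquiv ≪≫ₗ
    TensorProduct.congr ((QCoh.stalkPullbackIso f x).app E).toLinearEquiv
      (LinearEquiv.refl (X.presheaf.stalk x) (F.presheaf.stalk x)) ≪≫ₗ
    TensorProduct.comm (X.presheaf.stalk x) _ _ ≪≫ₗ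
    TensorProduct.AlgebraTensorModule.cancelBaseChange (Y.presheaf.stalk (f x)) (X.presheaf.stalk x)
      (X.presheaf.stalk x) (F.presheaf.stalk x) (E.presheaf.stalk (f x))⟩

section fibre

/-- Associated points and lengths on the fibre. -/
theorem fibre_transport (y : Y) (w : f.fiber y) :
    (Curv2.IsAssPoint ((Scheme.Modules.pullback (f.fiberι y)).obj F) w ↔
      IsAssociatedPrime (maximalIdeal (X.presheaf.stalk (f.fiberι y w))) (fibreQuot f F (f.fiberι y w))) ∧
    Module.length ((f.fiber y).presheaf.stalk w)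
        (((Scheme.Modules.pullback (f.fiberι y)).obj F).presheaf.stalk w) =
      Module.length (X.presheaf.stalk (f.fiberι y w)) (fibreQuot f F (f.fiberι y w)) := by
  obtain ⟨hsurj, hker⟩ := GrothLib.FibreFlat.fiberι_stalkMap f y w
  let ι := f.fiberι y
  let B := X.presheaf.stalk (ι w)
  let B' := (f.fiber y).presheaf.stalk w
  let M := F.presheaf.stalk (ι w)
  let N := ((Scheme.Modules.pullback ι).obj F).presheaf.stalk w
  letI : Algebra B B' := (ι.stalkMap w).hom.toAlgebra
  let J : Ideal B := fibreIdeal f (ι w)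
  have hk : RingHom.ker (algebraMap B B') = J := hker
  let φ : (B ⧸ J) →ₐ[B] B' :=
    Ideal.Quotient.liftₐ _ (Algebra.ofId B B') fun b hb => by rw [← hk, RingHom.mem_ker] at hb; exact hb
  have hφ : Function.Bijective φ := by
    refine ⟨(injective_iff_map_eq_zero φ).mpr fun b hb => ?_, fun b => ?_⟩
    · obtain ⟨b, rfl⟩ := Ideal.Quotient.mk_surjective b
      rw [Ideal.Quotient.eq_zero_iff_mem, ← hk]
      exact hb
    · obtain ⟨b, rfl⟩ := hsurj b
      exact ⟨Ideal.Quotient.mk _ b, rfl⟩
  let eT : (B' ⊗[B] M) ≃ₗ[B] fibreQuot f F (ι w) :=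
    TensorProduct.congr (AlgEquiv.ofBijective φ hφ).toLinearEquiv.symm (LinearEquiv.refl B M) ≪≫ₗ
      TensorProduct.quotTensorEquivQuotSMul M J
  let eN : N ≃ₗ[B'] B' ⊗[B] M := ((QCoh.stalkPullbackIso ι w).app F).toLinearEquiv
  let ψ : fibreQuot f F (ι w) ≃+ N := eT.symm.toAddEquiv.trans eN.symm.toAddEquiv
  obtain ⟨h1, h2⟩ := transport_surj (algebraMap B B') ψ.toAddMonoidHom hsurj ψ.bijective fun c z => by
    show eN.symm (eT.symm (c • z)) = algebraMap B B' c • eN.symm (eT.symm z)
    rw [← map_smul eN.symm, map_smul eT.symm, algebraMap_smul]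
  exact ⟨h1.symm, h2.symm⟩

end fibre

variable {f E F} [IsLocallyNoetherian X] [IsLocallyNoetherian Y] (hE : Coh.IsCoh E) (hF : Coh.IsCoh F)
  (hflat : FlatMod.IsFlatOver f F)

include hflat in
/-- Associated points of `f^*E ⊗ F`. -/
theorem ass_tensor_iff (x : X) :
    x ∈ AssSch.Ass (pullTensor f E F) ↔
      f x ∈ AssSch.Ass E ∧ IsAssociatedPrime (maximalIdeal (X.presheaf.stalk x)) (fibreQuot f F x) := by
  letI := (f.stalkMap x).hom.toAlgebra
  letI := FlatMod.moduleStalkOver f F x
  haveI : IsScalarTower (Y.presheaf.stalk (f x)) (X.presheaf.stalk x) (F.presheaf.stalk x) :=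
    IsScalarTower.of_algebraMap_smul fun _ _ => rfl
  haveI : IsLocalHom (algebraMap (Y.presheaf.stalk (f x)) (X.presheaf.stalk x)) :=
    inferInstanceAs (IsLocalHom (f.stalkMap x).hom)
  haveI : Module.Flat (Y.presheaf.stalk (f x)) (F.presheaf.stalk x) := hflat x
  obtain ⟨e⟩ := nonempty_stalk_equiv f E F x
  exact e.isAssociatedPrime_iff.trans maximal_ass_iff

include hF hflat in
/-- Length one at an associated point. -/
theorem length_tensor_iff {x : X} (hx : x ∈ AssSch.Ass (pullTensor f E F)) :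
    Module.length (X.presheaf.stalk x) ((pullTensor f E F).presheaf.stalk x) = 1 ↔
      Module.length (Y.presheaf.stalk (f x)) (E.presheaf.stalk (f x)) = 1 ∧
        Module.length (X.presheaf.stalk x) (fibreQuot f F x) = 1 := by
  letI := (f.stalkMap x).hom.toAlgebra
  letI := FlatMod.moduleStalkOver f F x
  haveI : IsScalarTower (Y.presheaf.stalk (f x)) (X.presheaf.stalk x) (F.presheaf.stalk x) :=
    IsScalarTower.of_algebraMap_smul fun _ _ => rfl
  haveI : IsLocalHom (algebraMap (Y.presheaf.stalk (f x)) (X.presheaf.stalk x)) :=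
    inferInstanceAs (IsLocalHom (f.stalkMap x).hom)
  haveI : Module.Flat (Y.presheaf.stalk (f x)) (F.presheaf.stalk x) := hflat x
  haveI := Primary.moduleFinite_stalk F x hF
  obtain ⟨e⟩ := nonempty_stalk_equiv f E F x
  rw [e.length_eq]
  exact length_eq_one_iff (e.isAssociatedPrime_iff.mp hx)

include hE hF hflat in
/-- Over each associated point of `E` generalising `f x`, an associated point of `f^*E ⊗ F` generalising `x`. -/
theorem exists_ass_tensor_over {x : X} (hx : x ∈ CohB1.support F) {y : Y} (hy : y ∈ AssSch.Ass E)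
    (hyx : y ⤳ f x) : ∃ z ∈ AssSch.Ass (pullTensor f E F), z ⤳ x ∧ f z = y := by
  letI := (f.stalkMap x).hom.toAlgebra
  letI := FlatMod.moduleStalkOver f F x
  haveI : IsScalarTower (Y.presheaf.stalk (f x)) (X.presheaf.stalk x) (F.presheaf.stalk x) :=
    IsScalarTower.of_algebraMap_smul fun _ _ => rfl
  haveI : IsLocalHom (algebraMap (Y.presheaf.stalk (f x)) (X.presheaf.stalk x)) :=
    inferInstanceAs (IsLocalHom (f.stalkMap x).hom)
  haveI : Module.Flat (Y.presheaf.stalk (f x)) (F.presheaf.stalk x) := hflat x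
  haveI := Primary.moduleFinite_stalk F x hF
  haveI : Nontrivial (F.presheaf.stalk x) := not_subsingleton_iff_nontrivial.mp hx
  haveI : E.IsQuasicoherent := hE.1
  haveI : F.IsQuasicoherent := hF.1
  haveI := FittSheaf.isQuasicoherent_pullback f E
  haveI : (pullTensor f E F).IsQuasicoherent :=
    VA.isQCoh_tensor (E := (Scheme.Modules.pullback f).obj E) (E' := F) inferInstance inferInstance
  obtain ⟨p, rfl⟩ := exists_of_specializes hyx
  obtain ⟨e⟩ := nonempty_stalk_equiv f E F x
  obtain ⟨Q, hQ, hQp⟩ := exists_ass_over (S := X.presheaf.stalk x) (N := F.presheaf.stalk x)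
    ((fromSpecStalk_mem_ass_iff E (f x) p).mp hy)
  let q : PrimeSpectrum (X.presheaf.stalk x) := ⟨Q, hQ.isPrime⟩
  refine ⟨X.fromSpecStalk x q, (fromSpecStalk_mem_ass_iff _ x q).mpr ?_, fromSpecStalk_specializes x q, ?_⟩
  · rw [LinearEquiv.AssociatedPrimes.eq e]
    exact hQ
  · rw [map_fromSpecStalk]
    exact congrArg _ (PrimeSpectrum.ext hQp)

end GrothLib.AssTensor3
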